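import Groth.Agent.SplitUniq26.Main
import Groth.Agent.SGA3cLib.Irreducible
import Groth.Agent.AbSchLib.SmoothReduced
import Groth.Agent.SGA3cLib.CartierDual

/-! A smooth closed subgroup containing the torus and all root groups of a splitting is everything on geometric fibres. -/

set_option autoImplicit false
set_option linter.style.haveILetI false
set_option linter.unusedSectionVars false
set_option backward.isDefEq.respectTransparency.types false
set_option maxHeartbeats 1000000
set_option synthInstance.maxHeartbeats 200000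
universe u

open CategoryTheory CategoryTheory.Limits MonoidalCategory CartesianMonoidalCategory MonObj GrpObj AlgebraicGeometry
open CoactBr TrivSqZeroExt

noncomputable section

namespace Groth.Agent.SplitCentral26

open Groth.Agent.HopfLib.SpPoints Groth.Agent.SGA3cLib Groth.Agent.SplitUniq26

/-- A proper closed subset of an irreducible space has smaller dimension. -/
theorem eq_univ_of_dim {T : Type u} [TopologicalSpace T] [IrreducibleSpace T] {d : ℕ}
    (hd : topologicalKrullDim T = d) {Z : Set T} (hZ : IsClosed Z) (h : (d : WithBot ℕ∞) ≤ topologicalKrullDim Z) :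
    Z = Set.univ := by
  by_contra hne
  obtain ⟨l, hl⟩ := Order.le_krullDim_iff.1 h
  let m : TopologicalSpace.IrreducibleCloseds Z → TopologicalSpace.IrreducibleCloseds T :=
    TopologicalSpace.IrreducibleCloseds.map (Subtype.val : Z → T) continuous_subtype_val
  have hm : StrictMono m :=
    TopologicalSpace.IrreducibleCloseds.map_strictMono_of_isInducing hZ.isClosedEmbedding_subtypeVal.isInducing
  let top : TopologicalSpace.IrreducibleCloseds T := ⟨Set.univ, IrreducibleSpace.isIrreducible_univ T, isClosed_univ⟩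
  have hlt : (l.map m hm).last < top := by
    refine lt_of_le_of_ne (fun x _ => Set.mem_univ x) fun e => hne ?_
    refine Set.eq_univ_of_univ_subset ?_
    have : closure ((Subtype.val : Z → T) '' (l.last : Set Z)) = Set.univ :=
      congrArg (fun C : TopologicalSpace.IrreducibleCloseds T => (C : Set T)) e
    rw [← this]
    exact closure_minimal (Set.image_subset_iff.2 fun z _ => z.2) hZ
  have : (((l.map m hm).snoc top hlt).length : WithBot ℕ∞) ≤ topologicalKrullDim T := le_sSup ⟨_, rfl⟩
  rw [RelSeries.snoc_length, LTSeries.map_length, hl] at this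
  have h2 : ((d + 1 : ℕ) : WithBot ℕ∞) ≤ (d : WithBot ℕ∞) := le_trans this (hd.le)
  have : d + 1 ≤ d := by exact_mod_cast h2
  omega

theorem gmFn_chi' {S : Scheme.{u}} {M : Type} [AddCommGroup M] {W : Over S} (p : W ⟶ Red.DS S M) (m : M) :
    Red.gmFn (p ≫ Red.chi S m) = dsFn p (Multiplicative.ofAdd m) := by
  rw [gmFn_eq_fn]
  show dsFn (p ≫ Red.DSmap _ (zmultiplesHom M m)) (Multiplicative.ofAdd (1 : ℤ)) = _
  rw [S5427.dsFn_DSmap]
  congr 1
  show Multiplicative.ofAdd (zmultiplesHom M m 1) = _
  rw [zmultiplesHom_apply, one_zsmul]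

section Points

variable {S : Scheme.{u}} {K : Type u} [Field K] (ω : Spec (CommRingCat.of K) ⟶ S) {M : Type} [AddCommGroup M]
  {R R' : Type u} [CommRing R] [Algebra K R] [CommRing R'] [Algebra K R']

/-- Global functions of the spectrum, seen over the base. -/
abbrev valW : Γ(((Over.map ω).obj (sp K R)).left, ⊤) ≃+* R := val (k := K) (R := R)

theorem val_gaFn_map (φ : R →ₐ[K] R') (x : (Over.map ω).obj (sp K R) ⟶ Red.Ga S) :
    valW (R := R') ω (Red.gaFn ((Over.map ω).map (pt φ) ≫ x)) = φ (valW (R := R) ω (Red.gaFn x)) := by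
  rw [SGA3cLib.gaFn_comp]
  exact val_comp φ _

theorem val_dsFn_map (φ : R →ₐ[K] R') (x : (Over.map ω).obj (sp K R) ⟶ Red.DS S M) (m : Multiplicative M) :
    valW (R := R') ω (dsFn ((Over.map ω).map (pt φ) ≫ x) m) = φ (valW (R := R) ω (dsFn x m)) := by
  rw [dsFn_comp]
  exact val_comp φ _

/-- The points of a base change as a homomorphism. -/
def ptHom (C : Over S) [GrpObj C] (X : Over (Spec (CommRingCat.of K))) :
    ((Over.map ω).obj X ⟶ C) →* (X ⟶ Red.bc ω C) :=
  MonoidHom.mk' (fun a => BCPoints.pt ω C X a) (fun a b => BCPoints.pt_mul ω a b)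

theorem ptHom_injective (C : Over S) [GrpObj C] (X : Over (Spec (CommRingCat.of K))) :
    Function.Injective (ptHom ω C X) := (BCPoints.pt ω C X).injective

theorem ptHom_map (C : Over S) [GrpObj C] {X Y : Over (Spec (CommRingCat.of K))} (t : X ⟶ Y)
    (a : (Over.map ω).obj Y ⟶ C) : t ≫ ptHom ω C Y a = ptHom ω C X ((Over.map ω).map t ≫ a) :=
  (BCPoints.pt_map_comp ω t a).symm

theorem ptHom_cj (C : Over S) [GrpObj C] (t₀ : (Over.map ω).obj (sp K K) ⟶ C)
    (p : (Over.map ω).obj (sp K R) ⟶ C) :
    ptHom ω C (sp K R) p ≫ cj (unitIso.inv ≫ ptHom ω C (sp K K) t₀) =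
      ptHom ω C (sp K R) (((Over.map ω).map (pt (Algebra.ofId K R)) ≫ t₀) * p *
        ((Over.map ω).map (pt (Algebra.ofId K R)) ≫ t₀)⁻¹) := by
  have h : toUnit (sp K R) ≫ unitIso.inv ≫ ptHom ω C (sp K K) t₀ =
      ptHom ω C (sp K R) ((Over.map ω).map (pt (Algebra.ofId K R)) ≫ t₀) := by
    rw [← ptHom_map, SplitUniq26.toUnit_comp, Iso.hom_inv_id_assoc]
  rw [comp_cj, h, map_mul, map_mul, map_inv]

end Points

variable {S : Scheme.{u}} {G C : Over S} [GrpObj G] [GrpObj C] (D : Red.SplitRed G)

/-- A smooth closed subgroup containing the torus and the root groups is everything on every geometric fibre. -/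
theorem isIso_geomFibre (c : C ⟶ G) [IsMonHom c] [IsClosedImmersion c.left] [Smooth C.hom]
    (jT : D.T ⟶ C) (hjT : jT ≫ c = D.i) (v : D.idx → (Red.Ga S ⟶ C)) (hv : ∀ a, v a ≫ c = D.u a) (s : S) :
    IsIso ((Over.pullback (Red.geomPt s)).map c) := by
  classical
  let K := AlgebraicClosure (S.residueField s)
  let ω : Spec (CommRingCat.of K) ⟶ S := Red.geomPt s
  haveI := D.maximalTorus.1
  haveI := D.maximalTorus.2.1
  haveI : Mono c := Over.mono_of_mono_left c
  haveI : Mono (jT ≫ c) := by rw [hjT]; infer_instance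
  haveI : Mono jT := mono_of_mono jT c
  haveI : IsMonHom jT := BCPoints.isMonHom_of_mul jT fun X x y => by
    rw [← cancel_mono c]
    simp only [Category.assoc, hjT, MonObj.mul_comp]
  haveI : IsMonHom D.split.inv.hom.hom := D.split.inv.hom.isMonHom_hom
  haveI : IsIso D.split.inv.hom.hom := inferInstanceAs (IsIso ((Grp.forget (Over S)).map D.split.inv))
  let jM : Red.DS S D.M ⟶ C := D.split.inv.hom.hom ≫ jT
  haveI : IsMonHom jM := inferInstanceAs (IsMonHom (D.split.inv.hom.hom ≫ jT))
  haveI : Mono jM := mono_comp _ _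
  have hGr := D.reductive.2.2 s
  haveI : IsAffine (Red.bc ω G).left := hGr.1
  haveI : Smooth (Red.bc ω G).hom := hGr.2.1
  haveI : ConnectedSpace (Red.bc ω G).left := hGr.2.2.1
  let F := Over.pullback ω
  haveI : IsClosedImmersion (F.map c).left := MorphismProperty.baseChange_map (P := @IsClosedImmersion) ω c inferInstance
  haveI : IsAffine (Red.bc ω C).left := isAffine_of_isAffineHom (F.map c).left
  haveI : Smooth (Red.bc ω C).hom := MorphismProperty.pullback_snd (P := @Smooth) _ _ inferInstance
  obtain ⟨A, _, _, ⟨e⟩⟩ := Misc15.AffinePoints.exists_sp (Red.bc ω C)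
  haveI := SplitUniq26.smooth_alg e
  haveI := SplitUniq26.finite_cotangent e
  let r := Module.finrank ℤ D.M
  let P := fun {R : Type u} [CommRing R] [Algebra K R] (x : (Over.map ω).obj (sp K R) ⟶ C) => ptHom ω C (sp K R) x
  -- conjugation by rational points of the torus
  choose t₀ ht₀ using fun φ : Multiplicative D.M →* K =>
    exists_dsPt (U := S) (W := (Over.map ω).obj (sp K K)) ((valW (R := K) ω).symm.toMonoidHom.comp φ)
  let op : (Multiplicative D.M →* K) → (Module.Dual K A →ₗ[K] Module.Dual K A) := fun φ =>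
    (SplitUniq26.comor e (cj (unitIso.inv ≫ P (t₀ φ ≫ jM)))).toLinearMap.dualMap
  have hval₀ : ∀ {R : Type u} [CommRing R] [Algebra K R] (φ : Multiplicative D.M →* K) (m : Multiplicative D.M),
      valW (R := R) ω (dsFn ((Over.map ω).map (pt (Algebra.ofId K R)) ≫ t₀ φ) m) = algebraMap K R (φ m) :=
    fun φ m => by
      rw [val_dsFn_map, ht₀]
      exact congrArg _ ((valW (R := K) ω).apply_symm_apply _)
  -- the root vectors
  obtain ⟨x, hx⟩ := exists_gaFn (S := S) (X := (Over.map ω).obj (sp K (TrivSqZeroExt K K)))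
    ((valW (R := TrivSqZeroExt K K) ω).symm (inr 1))
  have hxv : valW (R := TrivSqZeroExt K K) ω (Red.gaFn x) = inr 1 := by rw [hx, RingEquiv.apply_symm_apply]
  have huhom : ∀ a, IsMonHom (v a) := fun a => by
    haveI := (D.rootHom a).1
    exact BCPoints.isMonHom_of_mul (v a) fun X x y => by
      rw [← cancel_mono c]
      simp only [Category.assoc, hv, MonObj.mul_comp]
  have humono : ∀ a, Mono (v a) := fun a => by
    haveI := (D.rootHom a).2.1
    haveI : Mono (D.u a) := Over.mono_of_mono_left _
    haveI : Mono (v a ≫ c) := by rw [hv]; infer_instance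
    exact mono_of_mono (v a) c
  have htanx : ∀ a, IsTan (P (x ≫ v a)) := fun a => by
    haveI := huhom a
    show pt (fstHom K K K) ≫ ptHom ω C _ (x ≫ v a) = 1
    rw [ptHom_map, ← Category.assoc]
    have h1 : (Over.map ω).map (pt (fstHom K K K)) ≫ x = 1 := SGA3cLib.gaFn_injective
      ((valW (R := K) ω).injective (by
        rw [val_gaFn_map, hxv, SGA3cLib.gaFn_one, map_zero]
        simp))
    rw [h1, MonObj.one_comp, map_one]
  let δ : D.idx → Module.Dual K A := fun a => tan e (P (x ≫ v a))
  have hδ0 : ∀ a, δ a ≠ 0 := fun a h => by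
    haveI := huhom a
    haveI := humono a
    have h1 := eq_one_of_tan_eq_zero e (htanx a) h
    rw [← map_one (ptHom ω C (sp K (TrivSqZeroExt K K)))] at h1
    have h2 : x ≫ v a = 1 := ptHom_injective ω C _ h1
    rw [← MonObj.one_comp (v a), cancel_mono] at h2
    rw [h2, SGA3cLib.gaFn_one, map_zero] at hxv
    exact one_ne_zero (inr_injective (R := K) hxv.symm)
  have hδw : ∀ φ a, op φ (δ a) = φ (Multiplicative.ofAdd (D.P.root a)) • δ a := fun φ a => by
    let τ := (Over.map ω).map (pt (Algebra.ofId K (TrivSqZeroExt K K))) ≫ t₀ φ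
    obtain ⟨y, hy, hyv⟩ := (D.rootHom a).2.2 _ (τ ≫ D.split.inv.hom.hom) x
    set l₀ : K := φ (Multiplicative.ofAdd (D.P.root a))
    have hy' : y = (Over.map ω).map (pt (TrivSqZeroExt.map (l₀ • LinearMap.id : K →ₗ[K] K))) ≫ x :=
      SGA3cLib.gaFn_injective ((valW (R := TrivSqZeroExt K K) ω).injective (by
        rw [hyv, val_gaFn_map, map_mul, hxv]
        have h1 : (τ ≫ D.split.inv.hom.hom) ≫ D.split.hom.hom.hom ≫ Red.chi S (D.P.root a) = τ ≫ Red.chi S (D.P.root a) := by
          rw [Category.assoc]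
          congr 1
          rw [← Category.assoc]
          rw [show D.split.inv.hom.hom ≫ D.split.hom.hom.hom = (D.split.inv ≫ D.split.hom).hom.hom from rfl,
            D.split.inv_hom_id]
          exact Category.id_comp _
        rw [h1, gmFn_chi', hval₀, map_inr, algebraMap_eq_inl, inl_mul_inr]
        simp [l₀]
        exact (DualNumber.inr_eq_smul_eps _).symm))
    have hkey : ((Over.map ω).map (pt (Algebra.ofId K (TrivSqZeroExt K K))) ≫ t₀ φ ≫ jM) * (x ≫ v a) *
        ((Over.map ω).map (pt (Algebra.ofId K (TrivSqZeroExt K K))) ≫ t₀ φ ≫ jM)⁻¹ = y ≫ v a := by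
      rw [← cancel_mono c]
      simp only [MonObj.mul_comp, GrpObj.inv_comp, Category.assoc, jM, hjT, hv]
      simpa [τ, Category.assoc] using hy.symm
    calc op φ (tan e (P (x ≫ v a)))
        = tan e (P (x ≫ v a) ≫ cj (unitIso.inv ≫ P (t₀ φ ≫ jM))) := (tan_comp e _ _).symm
      _ = tan e (P (y ≫ v a)) := congrArg (tan e) (by
          show ptHom ω C _ _ ≫ cj (unitIso.inv ≫ ptHom ω C _ _) = ptHom ω C _ _
          rw [ptHom_cj, hkey])
      _ = tan e (pt (TrivSqZeroExt.map (l₀ • LinearMap.id : K →ₗ[K] K)) ≫ P (x ≫ v a)) := congrArg (tan e) (by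
          show ptHom ω C _ _ = _ ≫ ptHom ω C _ _
          rw [ptHom_map, hy', Category.assoc])
      _ = l₀ • tan e (P (x ≫ v a)) := by rw [tan_map, LinearMap.smul_comp, LinearMap.id_comp]
  -- the torus vectors
  let b := Module.finBasis ℤ D.M
  let f : D.M →+ (Fin r → K) :=
    { toFun := fun m i => ((b.coord i m : ℤ) : K)
      map_zero' := by ext; simp
      map_add' := fun x y => by ext; simp }
  obtain ⟨q, hq⟩ := exists_dsPt (U := S) (W := (Over.map ω).obj (sp K (TrivSqZeroExt K (Fin r → K))))
    ((valW (R := TrivSqZeroExt K (Fin r → K)) ω).symm.toMonoidHom.comp (linChr f))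
  have hqv : ∀ m, valW (R := TrivSqZeroExt K (Fin r → K)) ω (dsFn q m) = linChr f m := fun m => by
    rw [hq]
    exact (valW (R := TrivSqZeroExt K (Fin r → K)) ω).apply_symm_apply _
  have hptq : ∀ (L : (Fin r → K) →ₗ[K] K), pt (TrivSqZeroExt.map L) ≫ P (q ≫ jM) =
      P (((Over.map ω).map (pt (TrivSqZeroExt.map L)) ≫ q) ≫ jM) := fun L => by
    show _ ≫ ptHom ω C _ _ = ptHom ω C _ _
    rw [ptHom_map, Category.assoc]
  have htanq : ∀ L : (Fin r → K) →ₗ[K] K, IsTan (pt (TrivSqZeroExt.map L) ≫ P (q ≫ jM)) := fun L => by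
    show pt (fstHom K K K) ≫ pt (TrivSqZeroExt.map L) ≫ P (q ≫ jM) = 1
    rw [← Category.assoc, ← CoactBr.pt_comp, fstHom_comp_map]
    show _ ≫ ptHom ω C _ _ = 1
    rw [ptHom_map, ← Category.assoc]
    have h1 : (Over.map ω).map (pt (fstHom K K (Fin r → K))) ≫ q = 1 :=
      dsFn_injective (MonoidHom.ext fun m => (valW (R := K) ω).injective (by
        rw [val_dsFn_map, hqv, SGA3cLib.dsFn_one, map_one]
        simp [linChr]))
    rw [h1, MonObj.one_comp, map_one]
  let Q : A →ₗ[K] (Fin r → K) := tan e (P (q ≫ jM))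
  let ψ : Fin r → Module.Dual K A := fun i => (LinearMap.proj i : (Fin r → K) →ₗ[K] K).comp Q
  have hψe : ∀ i, ψ i = tan e (pt (TrivSqZeroExt.map (LinearMap.proj i : (Fin r → K) →ₗ[K] K)) ≫ P (q ≫ jM)) :=
    fun i => (tan_map e _ _).symm
  have hψw : ∀ φ i, op φ (ψ i) = ψ i := fun φ i => by
    rw [hψe, hptq]
    refine (tan_comp e _ _).symm.trans (congrArg (tan e) ?_)
    show ptHom ω C _ _ ≫ cj (unitIso.inv ≫ ptHom ω C _ _) = ptHom ω C _ _
    rw [ptHom_cj, ← Category.assoc, ← GrpObj.inv_comp _ jM, ← MonObj.mul_comp _ _ jM, ← MonObj.mul_comp _ _ jM]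
    congr 2
    rw [CartierDual.comm_DS S D.M _ ((Over.map ω).map (pt (Algebra.ofId K (TrivSqZeroExt K K))) ≫ t₀ φ)]
    exact mul_inv_cancel_right (G := (_ ⟶ Red.DS S D.M)) _ _
  have hψli : LinearIndependent K ψ := by
    rw [Fintype.linearIndependent_iff]
    intro cf hcf i
    let L : (Fin r → K) →ₗ[K] K := ∑ i, cf i • LinearMap.proj i
    have h0 : tan e (pt (TrivSqZeroExt.map L) ≫ P (q ≫ jM)) = 0 := by
      rw [tan_map, ← hcf]
      refine LinearMap.ext fun a => ?_
      simp [L, ψ, Q, LinearMap.sum_apply]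
    have h1 := eq_one_of_tan_eq_zero e (htanq L) h0
    rw [hptq, ← map_one (ptHom ω C (sp K (TrivSqZeroExt K K)))] at h1
    have h2 := ptHom_injective ω C _ h1
    rw [← MonObj.one_comp jM, cancel_mono] at h2
    have h3 := congrArg (fun z => (valW (R := TrivSqZeroExt K K) ω (dsFn z (Multiplicative.ofAdd (b i)))).snd) h2
    simp only [val_dsFn_map, hqv, SGA3cLib.dsFn_one, map_one] at h3
    simpa [linChr, f, L, Finsupp.single_apply, LinearMap.sum_apply] using h3
  -- independence
  let fam : D.idx ⊕ Fin r → Module.Dual K A := Sum.elim δ ψ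
  have hder : ∀ i, IsPtDer e (fam i) := by
    rintro (a | i)
    · exact isPtDer_tan e (htanx a)
    · show IsPtDer e (ψ i)
      rw [hψe]
      exact isPtDer_tan e (htanq _)
  have hli : LinearIndependent K fam := by
    rw [Fintype.linearIndependent_iff]
    intro cf hcf
    simp only [Fintype.sum_sum_type, fam, Sum.elim_inl, Sum.elim_inr] at hcf
    let lab : Option D.idx → D.M := fun o => o.elim 0 D.P.root
    let w : Option D.idx → Module.Dual K A := fun o =>
      o.elim (∑ i, cf (Sum.inr i) • ψ i) fun a => cf (Sum.inl a) • δ a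
    have hlab : Function.Injective lab := by
      rintro (_ | a) (_ | b) h <;> simp [lab] at h ⊢
      · exact D.P.ne_zero b h.symm
      · exact D.P.ne_zero a h
      · exact h
    have key := SplitUniq26.eq_zero_of_sum_eq_zero op (fun o φ => φ (Multiplicative.ofAdd (lab o))) Finset.univ
      (fun o _ o' _ hoo => hlab (SplitUniq26.χ_injective (k := K) fun t => congrFun hoo (chr (unitIso.hom ≫ t))))
      w (fun o _ φ => by
        rcases o with _ | a
        · simp only [w, lab, Option.elim, ofAdd_zero, map_one, _root_.one_smul, map_sum, map_smul, hψw φ]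
        · simp only [w, lab, Option.elim, map_smul, hδw φ a, smul_comm (cf _)]) (by
        rw [Fintype.sum_option]
        simp only [w, Option.elim]
        rw [← hcf]
        abel)
    rintro (a | i)
    · exact (smul_eq_zero.1 (key (some a) (Finset.mem_univ _))).resolve_right (hδ0 a)
    · exact (Fintype.linearIndependent_iff.1 hψli _ (key none (Finset.mem_univ _))) i
  have hcard := card_le_finrank e fam hder hli
  simp only [Fintype.card_sum, Fintype.card_fin] at hcard
  -- conclusion
  have hdimG : topologicalKrullDim ↥(Red.bc ω G).left = ((r + Fintype.card D.idx : ℕ) : WithBot ℕ∞) := D.dim_fibre s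
  haveI : IrreducibleSpace (Red.bc ω G).left := SGA3cLib.irreducibleSpace_of_connected (Red.bc ω G)
  haveI : IsReduced (Red.bc ω G).left := AbSchLib.isReduced_of_smooth (Red.bc ω G).hom
  haveI : Surjective (F.map c).left := by
    constructor
    rw [← Set.range_eq_univ]
    refine eq_univ_of_dim hdimG (F.map c).left.isClosedEmbedding.isClosed_range ?_
    rw [← IsHomeomorph.topologicalKrullDim_eq _ (F.map c).left.isClosedEmbedding.isEmbedding.toHomeomorph.isHomeomorph,
      ← SplitUniq26.finrank_cotangent e]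
    exact_mod_cast (Nat.add_comm r _).le.trans hcard
  haveI : IsIso (F.map c).left := isIso_of_isClosedImmersion_of_surjective _
  haveI : IsIso ((Over.forget _).map (F.map c)) := ‹IsIso (F.map c).left›
  exact isIso_of_reflects_iso (F.map c) (Over.forget _)

end Groth.Agent.SplitCentral26
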